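import Mathlib

/-!
# Pure "pair" lemmas for claim (N) of S2858 (K-S 10.3.11, residual case)

All statements are about subgroups of an arbitrary group `G` (no finiteness of `G`), with
elementwise normality hypotheses.  `S` is a 2-group with subgroups `D₁, D₂, D₃` of index two,
`L ≥ S` with `|L| = 3 |S|`, `K` a subgroup normalized by `L`.

* `i1`, `i1_elab` : step (I1);
* `i2` : step (I2);
* `i3`, `gen_of_not_normal` : step (I3) and its consequence for normal closures;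
* `step3` : step (3).
-/

set_option autoImplicit false

namespace Cfsg.Agent.Lib.Helper54.Amal

variable {G : Type*} [Group G]

/-- index two: membership of a product. -/
theorem mul_mem_iff_of_relIndex_two {D S : Subgroup G} (h : D.relIndex S = 2) {a b : G}
    (ha : a ∈ S) (hb : b ∈ S) : a * b ∈ D ↔ (a ∈ D ↔ b ∈ D) := by
  have := Subgroup.mul_mem_iff_of_index_two (H := D.subgroupOf S) h (a := ⟨a, ha⟩) (b := ⟨b, hb⟩)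
  simpa [Subgroup.mem_subgroupOf] using this

/-- index two: conjugation. -/
theorem conj_mem_of_relIndex_two {D S : Subgroup G} (h : D.relIndex S = 2) {s d : G}
    (hs : s ∈ S) (hdS : d ∈ S) (hd : d ∈ D) : s * d * s⁻¹ ∈ D := by
  rw [mul_mem_iff_of_relIndex_two h (S.mul_mem hs hdS) (S.inv_mem hs),
    mul_mem_iff_of_relIndex_two h hs hdS]
  simp [hd]

/-- index two: a proper subgroup. -/
theorem exists_not_mem_of_relIndex_two {D S : Subgroup G} (h : D.relIndex S = 2) :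
    ∃ s ∈ S, s ∉ D := by
  by_contra hcon
  push Not at hcon
  have : D.relIndex S = 1 := Subgroup.relIndex_eq_one.mpr hcon
  omega

/-- two distinct subgroups of index two: an element of the second outside the first. -/
theorem exists_mem_not_mem_of_ne {S D₁ D₂ : Subgroup G} (hD₁S : D₁ ≤ S) (_hD₂S : D₂ ≤ S)
    (h₁ : D₁.relIndex S = 2) (h₂ : D₂.relIndex S = 2) (hne : D₁ ≠ D₂) :
    ∃ u ∈ D₂, u ∉ D₁ := by
  by_contra hcon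
  push Not at hcon
  apply hne
  refine le_antisymm ?_ hcon
  intro x hx
  by_contra hx2
  obtain ⟨y, hyS, hy⟩ := exists_not_mem_of_relIndex_two h₁
  have hy2 : y ∉ D₂ := fun h => hy (hcon y h)
  have h1 : x * y ∈ D₂ := by
    rw [mul_mem_iff_of_relIndex_two h₂ (hD₁S hx) hyS]
    simp [hx2, hy2]
  have h2 : x * y ∈ D₁ := hcon _ h1
  exact hy ((Subgroup.mul_mem_cancel_left D₁ hx).mp h2)

/-- **(I1)**: an element of `S` outside `D₁ ∪ D₂` has its square outside `K`. -/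
theorem i1 (S D₁ D₂ K : Subgroup G) (hD₁S : D₁ ≤ S) (hD₂S : D₂ ≤ S)
    (h₁ : D₁.relIndex S = 2) (h₂ : D₂.relIndex S = 2) (hne : D₁ ≠ D₂)
    (hKn : ∀ s ∈ S, ∀ k ∈ K, s * k * s⁻¹ ∈ K)
    (hEA₁ : ∀ d ∈ D₁, ∀ e ∈ D₁, d * d ∈ K ∧ d * e * d⁻¹ * e⁻¹ ∈ K)
    (hEA₂ : ∀ d ∈ D₂, ∀ e ∈ D₂, d * d ∈ K ∧ d * e * d⁻¹ * e⁻¹ ∈ K)
    (hC₂ : ∀ g ∈ S, (∀ d ∈ D₂, g * d * g⁻¹ * d⁻¹ ∈ K) → g ∈ D₂)
    (g : G) (hg : g ∈ S) (hg₁ : g ∉ D₁) (hg₂ : g ∉ D₂) : g * g ∉ K := by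
  intro hgg
  obtain ⟨u₂, hu₂, hu₂1⟩ := exists_mem_not_mem_of_ne hD₁S hD₂S h₁ h₂ hne
  have hu₂S : u₂ ∈ S := hD₂S hu₂
  -- `u₁ := g * u₂⁻¹ ∈ D₁ ∖ D₂`
  have hu₁ : g * u₂⁻¹ ∈ D₁ := by
    rw [mul_mem_iff_of_relIndex_two h₁ hg (S.inv_mem hu₂S)]
    simp [hg₁, hu₂1]
  have hu₁2 : g * u₂⁻¹ ∉ D₂ := by
    intro h
    apply hg₂
    have := D₂.mul_mem h hu₂
    simpa using this
  have hu₁S : g * u₂⁻¹ ∈ S := hD₁S hu₁
  -- `[u₁, u₂] ∈ K`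
  have hcomm : (g * u₂⁻¹) * u₂ * (g * u₂⁻¹)⁻¹ * u₂⁻¹ ∈ K := by
    have e : (g * u₂⁻¹) * u₂ * (g * u₂⁻¹)⁻¹ * u₂⁻¹ =
        (g * g) * (u₂⁻¹ * ((g * u₂⁻¹) * (g * u₂⁻¹))⁻¹ * u₂⁻¹⁻¹) * (u₂ * u₂)⁻¹ := by group
    rw [e]
    exact K.mul_mem (K.mul_mem hgg (hKn _ (S.inv_mem hu₂S) _ (K.inv_mem (hEA₁ _ hu₁ _ hu₁).1)))
      (K.inv_mem (hEA₂ _ hu₂ _ hu₂).1)
  apply hu₁2
  apply hC₂ _ hu₁S
  intro d hd
  by_cases hd1 : d ∈ D₁
  · exact (hEA₁ _ hu₁ _ hd1).2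
  · -- `d = u₂ * e`, `e ∈ D₁ ⊓ D₂`
    have he1 : u₂⁻¹ * d ∈ D₁ := by
      rw [mul_mem_iff_of_relIndex_two h₁ (S.inv_mem hu₂S) (hD₂S hd)]
      simp [hd1, hu₂1]
    have e : (g * u₂⁻¹) * d * (g * u₂⁻¹)⁻¹ * d⁻¹ =
        ((g * u₂⁻¹) * u₂ * (g * u₂⁻¹)⁻¹ * u₂⁻¹) *
          (u₂ * ((g * u₂⁻¹) * (u₂⁻¹ * d) * (g * u₂⁻¹)⁻¹ * (u₂⁻¹ * d)⁻¹) * u₂⁻¹) := by group
    rw [e]
    exact K.mul_mem hcomm (hKn _ hu₂S _ (hEA₁ _ hu₁ _ he1).2)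

/-- **(I1)**, consequence: a subgroup of exponent two of `S` lies in `D₁` or in `D₂`. -/
theorem i1_elab (S D₁ D₂ K : Subgroup G) (hD₁S : D₁ ≤ S) (hD₂S : D₂ ≤ S)
    (h₁ : D₁.relIndex S = 2) (h₂ : D₂.relIndex S = 2) (hne : D₁ ≠ D₂)
    (hKn : ∀ s ∈ S, ∀ k ∈ K, s * k * s⁻¹ ∈ K)
    (hEA₁ : ∀ d ∈ D₁, ∀ e ∈ D₁, d * d ∈ K ∧ d * e * d⁻¹ * e⁻¹ ∈ K)
    (hEA₂ : ∀ d ∈ D₂, ∀ e ∈ D₂, d * d ∈ K ∧ d * e * d⁻¹ * e⁻¹ ∈ K)
    (hC₂ : ∀ g ∈ S, (∀ d ∈ D₂, g * d * g⁻¹ * d⁻¹ ∈ K) → g ∈ D₂)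
    (E : Subgroup G) (hES : E ≤ S) (hE : ∀ x ∈ E, x * x = 1) : E ≤ D₁ ∨ E ≤ D₂ := by
  have key : ∀ x ∈ E, x ∈ D₁ ∨ x ∈ D₂ := by
    intro x hx
    by_contra hcon
    push Not at hcon
    exact i1 S D₁ D₂ K hD₁S hD₂S h₁ h₂ hne hKn hEA₁ hEA₂ hC₂ x (hES hx) hcon.1 hcon.2
      (by rw [hE x hx]; exact K.one_mem)
  by_contra hcon
  push Not at hcon
  obtain ⟨hc1, hc2⟩ := hcon
  obtain ⟨x, hxE, hx1⟩ := SetLike.not_le_iff_exists.mp hc1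
  obtain ⟨y, hyE, hy2⟩ := SetLike.not_le_iff_exists.mp hc2
  have hx2 : x ∈ D₂ := (key x hxE).resolve_left hx1
  have hy1 : y ∈ D₁ := (key y hyE).resolve_right hy2
  rcases key (x * y) (E.mul_mem hxE hyE) with h | h
  · exact hx1 ((Subgroup.mul_mem_cancel_right D₁ hy1).mp h)
  · exact hy2 ((Subgroup.mul_mem_cancel_left D₂ hx2).mp h)

/-- the elements of `L` centralizing `x` modulo `K` (a subgroup, as `L` normalizes `K`). -/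
def centMod (L K : Subgroup G) (hK : ∀ l ∈ L, ∀ k ∈ K, l * k * l⁻¹ ∈ K) (x : G) : Subgroup G where
  carrier := {l | l ∈ L ∧ l * x * l⁻¹ * x⁻¹ ∈ K}
  one_mem' := ⟨L.one_mem, by simp⟩
  mul_mem' := by
    rintro a b ⟨ha, ha'⟩ ⟨hb, hb'⟩
    refine ⟨L.mul_mem ha hb, ?_⟩
    have e : a * b * x * (a * b)⁻¹ * x⁻¹ = a * (b * x * b⁻¹ * x⁻¹) * a⁻¹ * (a * x * a⁻¹ * x⁻¹) := by
      group
    rw [e]
    exact K.mul_mem (hK a ha _ hb') ha'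
  inv_mem' := by
    rintro a ⟨ha, ha'⟩
    refine ⟨L.inv_mem ha, ?_⟩
    have e : a⁻¹ * x * a⁻¹⁻¹ * x⁻¹ = a⁻¹ * (a * x * a⁻¹ * x⁻¹)⁻¹ * a⁻¹⁻¹ := by group
    rw [e]
    exact hK a⁻¹ (L.inv_mem ha) _ (K.inv_mem ha')

theorem mem_centMod {L K : Subgroup G} {hK : ∀ l ∈ L, ∀ k ∈ K, l * k * l⁻¹ ∈ K} {x l : G} :
    l ∈ centMod L K hK x ↔ l ∈ L ∧ l * x * l⁻¹ * x⁻¹ ∈ K := Iff.rfl

/-- a subgroup of index three is maximal (cardinality form; only `L` finite). -/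
theorem le_of_card_three {L S C : Subgroup G} [Finite ↥L] (hSL : S ≤ L)
    (hcard : Nat.card ↥L = 3 * Nat.card ↥S) (hSC : S ≤ C) (hCL : C ≤ L) (hCS : ¬ C ≤ S) :
    L ≤ C := by
  have hfS : Finite ↥S := Finite.of_injective _ (Subgroup.inclusion_injective hSL)
  have hfC : Finite ↥C := Finite.of_injective _ (Subgroup.inclusion_injective hCL)
  have hS0 : 0 < Nat.card ↥S := Nat.card_pos
  have h1 : Nat.card ↥S * S.relIndex L = Nat.card ↥L := by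
    rw [Subgroup.relIndex, ← Nat.card_congr (Subgroup.subgroupOfEquivOfLe hSL).toEquiv]
    exact Subgroup.card_mul_index _
  have h3 : S.relIndex L = 3 := by
    have : Nat.card ↥S * S.relIndex L = Nat.card ↥S * 3 := by rw [h1, hcard]; ring
    exact Nat.eq_of_mul_eq_mul_left hS0 this
  have h4 : S.relIndex C * C.relIndex L = 3 := by
    rw [Subgroup.relIndex_mul_relIndex S C L hSC hCL, h3]
  have h5 : S.relIndex C ≠ 1 := fun h => hCS (Subgroup.relIndex_eq_one.mp h)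
  have h6 : C.relIndex L = 1 := by
    have hdvd : S.relIndex C ∣ 3 := Dvd.intro _ h4
    have hp : Nat.Prime 3 := by norm_num
    rcases (Nat.dvd_prime hp).mp hdvd with h | h
    · exact absurd h h5
    · rw [h] at h4; omega
  exact Subgroup.relIndex_eq_one.mp h6

/-- **(I2)**: `M ⊓ gMg⁻¹` is normalized by `L` (elementwise form). -/
theorem i2 (L S M K : Subgroup G) [Finite ↥L] (hSL : S ≤ L)
    (hcard : Nat.card ↥L = 3 * Nat.card ↥S) (hKM : K ≤ M)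
    (hKn : ∀ l ∈ L, ∀ k ∈ K, l * k * l⁻¹ ∈ K)
    (hMc : ∀ m ∈ M, ∀ s ∈ S, m * s * m⁻¹ * s⁻¹ ∈ K)
    (g : G) (hg : g ∈ L) (hgS : ∃ s ∈ S, g * s * g⁻¹ ∉ S)
    (x : G) (hx : x ∈ M) (hxg : g⁻¹ * x * g ∈ M) (h : G) (hh : h ∈ L) :
    h * x * h⁻¹ ∈ M ∧ g⁻¹ * (h * x * h⁻¹) * g ∈ M := by
  have hSC : S ≤ centMod L K hKn x := by
    intro s hs
    refine ⟨hSL hs, ?_⟩
    have e : s * x * s⁻¹ * x⁻¹ = (x * s * x⁻¹ * s⁻¹)⁻¹ := by group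
    rw [e]
    exact K.inv_mem (hMc x hx s hs)
  have hCL : centMod L K hKn x ≤ L := fun l hl => hl.1
  have hgC : ∀ s ∈ S, g * s * g⁻¹ ∈ centMod L K hKn x := by
    intro s hs
    refine ⟨L.mul_mem (L.mul_mem hg (hSL hs)) (L.inv_mem hg), ?_⟩
    have e : g * s * g⁻¹ * x * (g * s * g⁻¹)⁻¹ * x⁻¹ =
        g * ((g⁻¹ * x * g) * s * (g⁻¹ * x * g)⁻¹ * s⁻¹)⁻¹ * g⁻¹ := by group
    rw [e]
    exact hKn g hg _ (K.inv_mem (hMc _ hxg s hs))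
  have hCS : ¬ centMod L K hKn x ≤ S := by
    obtain ⟨s, hs, hs'⟩ := hgS
    exact fun hle => hs' (hle (hgC s hs))
  have hLC : L ≤ centMod L K hKn x := le_of_card_three hSL hcard hSC hCL hCS
  have hk : h * x * h⁻¹ * x⁻¹ ∈ K := (hLC hh).2
  constructor
  · have e : h * x * h⁻¹ = (h * x * h⁻¹ * x⁻¹) * x := by group
    rw [e]
    exact M.mul_mem (hKM hk) hx
  · have e : g⁻¹ * (h * x * h⁻¹) * g = (g⁻¹ * (h * x * h⁻¹ * x⁻¹) * g⁻¹⁻¹) * (g⁻¹ * x * g) := by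
      group
    rw [e]
    exact M.mul_mem (hKM (hKn g⁻¹ (L.inv_mem hg) _ hk)) hxg

/-- the subgroup `M ⊓ gMg⁻¹`. -/
def interConj (M : Subgroup G) (g : G) : Subgroup G :=
  M ⊓ M.comap (MulAut.conj g⁻¹).toMonoidHom

theorem mem_interConj {M : Subgroup G} {g x : G} :
    x ∈ interConj M g ↔ x ∈ M ∧ g⁻¹ * x * g ∈ M := by
  simp [interConj, Subgroup.mem_comap]

theorem interConj_le (M : Subgroup G) (g : G) : interConj M g ≤ M := inf_le_left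

/-- **(I2)**, subgroup form. -/
theorem i2' (L S M K : Subgroup G) [Finite ↥L] (hSL : S ≤ L)
    (hcard : Nat.card ↥L = 3 * Nat.card ↥S) (hKM : K ≤ M)
    (hKn : ∀ l ∈ L, ∀ k ∈ K, l * k * l⁻¹ ∈ K)
    (hMc : ∀ m ∈ M, ∀ s ∈ S, m * s * m⁻¹ * s⁻¹ ∈ K)
    (g : G) (hg : g ∈ L) (hgS : ∃ s ∈ S, g * s * g⁻¹ ∉ S) :
    ∀ l ∈ L, ∀ x ∈ interConj M g, l * x * l⁻¹ ∈ interConj M g := by
  intro l hl x hx
  rw [mem_interConj] at hx ⊢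
  exact i2 L S M K hSL hcard hKM hKn hMc g hg hgS x hx.1 hx.2 l hl

/-- **(I3)**, consequence: if `D₁ ⊓ D₂` is not normalized by `L`, every subgroup normalized by `L`
and containing `D₁ ⊓ D₂` contains `D₁`. -/
theorem gen_of_not_normal (L S D₁ D₂ : Subgroup G) (hD₁S : D₁ ≤ S) (h₂ : D₂.relIndex S = 2)
    (hD₁n : ∀ l ∈ L, ∀ d ∈ D₁, l * d * l⁻¹ ∈ D₁)
    (hnot : ¬ ∀ l ∈ L, ∀ m ∈ D₁ ⊓ D₂, l * m * l⁻¹ ∈ D₁ ⊓ D₂)
    (N : Subgroup G) (hNn : ∀ l ∈ L, ∀ n ∈ N, l * n * l⁻¹ ∈ N) (hMN : D₁ ⊓ D₂ ≤ N) : D₁ ≤ N := by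
  by_contra hcon
  obtain ⟨b, hb, hbN⟩ := SetLike.not_le_iff_exists.mp hcon
  have hb2 : b ∉ D₂ := fun h => hbN (hMN ⟨hb, h⟩)
  have heq : N ⊓ D₁ = D₁ ⊓ D₂ := by
    apply le_antisymm
    · intro a ha
      have haN : a ∈ N := ha.1
      have ha1 : a ∈ D₁ := ha.2
      refine Subgroup.mem_inf.mpr ⟨ha1, ?_⟩
      by_contra ha2
      have h1 : a⁻¹ * b ∈ D₂ := by
        rw [mul_mem_iff_of_relIndex_two h₂ (S.inv_mem (hD₁S ha1)) (hD₁S hb)]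
        simp [ha2, hb2]
      have h2 : a⁻¹ * b ∈ N := hMN ⟨D₁.mul_mem (D₁.inv_mem ha1) hb, h1⟩
      exact hbN ((Subgroup.mul_mem_cancel_left N (N.inv_mem haN)).mp h2)
    · exact le_inf hMN inf_le_left
  apply hnot
  intro l hl m hm
  rw [← heq] at hm ⊢
  exact ⟨hNn l hl m hm.1, hD₁n l hl m hm.2⟩

/-- **(I3)**: `D₁ ⊓ D₂` is not normalized by `L₁`. -/
theorem i3 (L₁ L₂ S D₁ D₂ K : Subgroup G) (hD₁S : D₁ ≤ S) (_hD₂S : D₂ ≤ S)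
    (h₁ : D₁.relIndex S = 2) (h₂ : D₂.relIndex S = 2)
    (hKmax : ∀ N : Subgroup G, N ≤ S → (∀ l ∈ L₁, ∀ n ∈ N, l * n * l⁻¹ ∈ N) →
      (∀ l ∈ L₂, ∀ n ∈ N, l * n * l⁻¹ ∈ N) → N ≤ K)
    (hC₁ : ∀ g ∈ S, (∀ d ∈ D₁, g * d * g⁻¹ * d⁻¹ ∈ K) → g ∈ D₁)
    (hswap : (∀ l ∈ L₁, ∀ m ∈ D₁ ⊓ D₂, l * m * l⁻¹ ∈ D₁ ⊓ D₂) →
      (∀ l ∈ L₂, ∀ m ∈ D₁ ⊓ D₂, l * m * l⁻¹ ∈ D₁ ⊓ D₂)) :
    ¬ ∀ l ∈ L₁, ∀ m ∈ D₁ ⊓ D₂, l * m * l⁻¹ ∈ D₁ ⊓ D₂ := by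
  intro hn
  have hMK : D₁ ⊓ D₂ ≤ K := hKmax _ (inf_le_left.trans hD₁S) hn (hswap hn)
  obtain ⟨s, hsS, hs⟩ := exists_not_mem_of_relIndex_two h₁
  apply hs
  apply hC₁ s hsS
  intro d hd
  apply hMK
  have hdS : d ∈ S := hD₁S hd
  refine Subgroup.mem_inf.mpr ⟨?_, ?_⟩
  · exact D₁.mul_mem (conj_mem_of_relIndex_two h₁ hsS hdS hd) (D₁.inv_mem hd)
  · rw [mul_mem_iff_of_relIndex_two h₂ (S.mul_mem (S.mul_mem hsS hdS) (S.inv_mem hsS))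
      (S.inv_mem hdS), mul_mem_iff_of_relIndex_two h₂ (S.mul_mem hsS hdS) (S.inv_mem hsS),
      mul_mem_iff_of_relIndex_two h₂ hsS hdS]
    simp only [inv_mem_iff]
    tauto

/-- one-sided conjugation stability of a finite subgroup is two-sided. -/
theorem conj_inv_mem_of_forall {S : Subgroup G} [Finite ↥S] {g : G}
    (h : ∀ s ∈ S, g * s * g⁻¹ ∈ S) : ∀ s ∈ S, g⁻¹ * s * g ∈ S := by
  intro s hs
  let f : ↥S → ↥S := fun t => ⟨g * t * g⁻¹, h t t.2⟩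
  have hinj : Function.Injective f := by
    intro a b hab
    have : g * (a : G) * g⁻¹ = g * (b : G) * g⁻¹ := congrArg Subtype.val hab
    have h2 : (a : G) = b := by
      have := congrArg (fun y => g⁻¹ * y * g) this
      simpa [mul_assoc] using this
    exact Subtype.ext h2
  obtain ⟨t, ht⟩ := (Finite.injective_iff_surjective.mp hinj) ⟨s, hs⟩
  have ht' : g * (t : G) * g⁻¹ = s := congrArg Subtype.val ht
  have : g⁻¹ * s * g = t := by rw [← ht']; group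
  rw [this]
  exact t.2

/-- the two-sided stabilizer of `S` in `L`. -/
def stab (L S : Subgroup G) : Subgroup G where
  carrier := {l | l ∈ L ∧ (∀ s ∈ S, l * s * l⁻¹ ∈ S) ∧ (∀ s ∈ S, l⁻¹ * s * l ∈ S)}
  one_mem' := ⟨L.one_mem, by simp, by simp⟩
  mul_mem' := by
    rintro a b ⟨ha, ha1, ha2⟩ ⟨hb, hb1, hb2⟩
    refine ⟨L.mul_mem ha hb, ?_, ?_⟩
    · intro s hs
      have e : a * b * s * (a * b)⁻¹ = a * (b * s * b⁻¹) * a⁻¹ := by group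
      rw [e]
      exact ha1 _ (hb1 s hs)
    · intro s hs
      have e : (a * b)⁻¹ * s * (a * b) = b⁻¹ * (a⁻¹ * s * a) * b := by group
      rw [e]
      exact hb2 _ (ha2 s hs)
  inv_mem' := by
    rintro a ⟨ha, ha1, ha2⟩
    refine ⟨L.inv_mem ha, ?_, ?_⟩
    · intro s hs
      simpa using ha2 s hs
    · intro s hs
      simpa using ha1 s hs

/-- if `S` of index three is not normal in `L`, every element of `L` outside `S` moves `S`. -/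
theorem exists_conj_not_mem {L S : Subgroup G} [Finite ↥L] (hSL : S ≤ L)
    (hcard : Nat.card ↥L = 3 * Nat.card ↥S) (hSn : ∃ l ∈ L, ∃ s ∈ S, l * s * l⁻¹ ∉ S)
    {g : G} (hg : g ∈ L) (hgS : g ∉ S) : ∃ s ∈ S, g * s * g⁻¹ ∉ S := by
  have hfS : Finite ↥S := Finite.of_injective _ (Subgroup.inclusion_injective hSL)
  by_contra hcon
  push Not at hcon
  have hgst : g ∈ stab L S := ⟨hg, hcon, conj_inv_mem_of_forall hcon⟩
  have hSst : S ≤ stab L S := by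
    intro s hs
    exact ⟨hSL hs, fun t ht => S.mul_mem (S.mul_mem hs ht) (S.inv_mem hs),
      fun t ht => S.mul_mem (S.mul_mem (S.inv_mem hs) ht) hs⟩
  have hstL : stab L S ≤ L := fun l hl => hl.1
  have hLst : L ≤ stab L S :=
    le_of_card_three hSL hcard hSst hstL (fun hle => hgS (hle hgst))
  obtain ⟨l, hl, s, hs, hls⟩ := hSn
  exact hls ((hLst hl).2.1 s hs)

/-- **Step (3)**: an exponent-two subgroup `B` of `D₁` lies in an `L`-invariant subgroup of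
`D₁ ⊓ D₂` or of `D₁ ⊓ D₃`. -/
theorem step3 (L S D₁ D₂ D₃ K₂ K₃ : Subgroup G) [Finite ↥L] (hSL : S ≤ L)
    (hcard : Nat.card ↥L = 3 * Nat.card ↥S)
    (hSn : ∃ l ∈ L, ∃ s ∈ S, l * s * l⁻¹ ∉ S)
    (hD₁n : ∀ l ∈ L, ∀ d ∈ D₁, l * d * l⁻¹ ∈ D₁) (hD₁S : D₁ ≤ S)
    (hI1 : ∀ E : Subgroup G, E ≤ S → (∀ x ∈ E, x * x = 1) → E ≤ D₂ ∨ E ≤ D₃)
    (hK₃ : K₃ ≤ D₁ ⊓ D₂) (hK₃n : ∀ l ∈ L, ∀ k ∈ K₃, l * k * l⁻¹ ∈ K₃)
    (hc₃ : ∀ m ∈ D₁ ⊓ D₂, ∀ s ∈ S, m * s * m⁻¹ * s⁻¹ ∈ K₃)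
    (hK₂ : K₂ ≤ D₁ ⊓ D₃) (hK₂n : ∀ l ∈ L, ∀ k ∈ K₂, l * k * l⁻¹ ∈ K₂)
    (hc₂ : ∀ m ∈ D₁ ⊓ D₃, ∀ s ∈ S, m * s * m⁻¹ * s⁻¹ ∈ K₂)
    (B : Subgroup G) (hB : ∀ x ∈ B, x * x = 1) (hBD : B ≤ D₁) :
    ∃ K : Subgroup G, (∀ l ∈ L, ∀ k ∈ K, l * k * l⁻¹ ∈ K) ∧ B ≤ K ∧
      (K ≤ D₁ ⊓ D₂ ∨ K ≤ D₁ ⊓ D₃) := by
  classical
  have hfS : Finite ↥S := Finite.of_injective _ (Subgroup.inclusion_injective hSL)
  -- the dichotomy for every `h ∈ L`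
  have hdich : ∀ h ∈ L, (∀ b ∈ B, h⁻¹ * b * h ∈ D₂) ∨ (∀ b ∈ B, h⁻¹ * b * h ∈ D₃) := by
    intro h hh
    have hE : B.map (MulAut.conj h⁻¹).toMonoidHom ≤ S := by
      rintro _ ⟨b, hb, rfl⟩
      have := hD₁n h⁻¹ (L.inv_mem hh) b (hBD hb)
      exact hD₁S (by simpa using this)
    have hE2 : ∀ x ∈ B.map (MulAut.conj h⁻¹).toMonoidHom, x * x = 1 := by
      rintro _ ⟨b, hb, rfl⟩
      have := hB b hb
      simp only [MulEquiv.coe_toMonoidHom, MulAut.conj_apply, inv_inv]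
      calc h⁻¹ * b * h * (h⁻¹ * b * h) = h⁻¹ * (b * b) * h := by group
        _ = 1 := by rw [this]; group
    rcases hI1 _ hE hE2 with h2 | h3
    · left
      intro b hb
      have := h2 (Subgroup.mem_map_of_mem _ hb)
      simpa using this
    · right
      intro b hb
      have := h3 (Subgroup.mem_map_of_mem _ hb)
      simpa using this
  -- the common argument for `j = 2, 3`
  have hmain : ∀ (Dj Kj : Subgroup G), Kj ≤ D₁ ⊓ Dj → (∀ l ∈ L, ∀ k ∈ Kj, l * k * l⁻¹ ∈ Kj) →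
      (∀ m ∈ D₁ ⊓ Dj, ∀ s ∈ S, m * s * m⁻¹ * s⁻¹ ∈ Kj) →
      ∀ h ∈ L, ∀ h' ∈ L, h⁻¹ * h' ∉ S → (∀ b ∈ B, h⁻¹ * b * h ∈ Dj) →
      (∀ b ∈ B, h'⁻¹ * b * h' ∈ Dj) →
      ∃ K : Subgroup G, (∀ l ∈ L, ∀ k ∈ K, l * k * l⁻¹ ∈ K) ∧ B ≤ K ∧ K ≤ D₁ ⊓ Dj := by
    intro Dj Kj hKj hKjn hcj h hh h' hh' hne hP hP'
    have hgL : h⁻¹ * h' ∈ L := L.mul_mem (L.inv_mem hh) hh'
    have hgS := exists_conj_not_mem hSL hcard hSn hgL hne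
    have hnorm := i2' L S (D₁ ⊓ Dj) Kj hSL hcard hKj hKjn hcj (h⁻¹ * h') hgL hgS
    refine ⟨interConj (D₁ ⊓ Dj) (h⁻¹ * h'), hnorm, ?_, interConj_le _ _⟩
    intro b hb
    have hx : h⁻¹ * b * h ∈ interConj (D₁ ⊓ Dj) (h⁻¹ * h') := by
      rw [mem_interConj]
      refine ⟨⟨?_, hP b hb⟩, ?_⟩
      · have := hD₁n h⁻¹ (L.inv_mem hh) b (hBD hb)
        simpa using this
      · have e : (h⁻¹ * h')⁻¹ * (h⁻¹ * b * h) * (h⁻¹ * h') = h'⁻¹ * b * h' := by group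
        rw [e]
        refine ⟨?_, hP' b hb⟩
        have := hD₁n h'⁻¹ (L.inv_mem hh') b (hBD hb)
        simpa using this
    have := hnorm h hh _ hx
    have e : h * (h⁻¹ * b * h) * h⁻¹ = b := by group
    rwa [e] at this
  -- three cosets, two alternatives
  have hidx : Nat.card (↥L ⧸ S.subgroupOf L) = 3 := by
    have h1 : Nat.card ↥(S.subgroupOf L) * (S.subgroupOf L).index = Nat.card ↥L :=
      Subgroup.card_mul_index _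
    rw [Nat.card_congr (Subgroup.subgroupOfEquivOfLe hSL).toEquiv, hcard] at h1
    have hS0 : 0 < Nat.card ↥S := Nat.card_pos
    have : (S.subgroupOf L).index = 3 := by
      have h2 : Nat.card ↥S * (S.subgroupOf L).index = Nat.card ↥S * 3 := by rw [h1]; ring
      exact Nat.eq_of_mul_eq_mul_left hS0 h2
    rw [← this]; rfl
  have hfin : Finite (↥L ⧸ S.subgroupOf L) := Nat.finite_of_card_ne_zero (by omega)
  have hFt : Fintype (↥L ⧸ S.subgroupOf L) := Fintype.ofFinite _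
  let f : (↥L ⧸ S.subgroupOf L) → Bool :=
    fun q => decide (∀ b ∈ B, ((q.out : ↥L) : G)⁻¹ * b * ((q.out : ↥L) : G) ∈ D₂)
  have hlt : Fintype.card Bool < Fintype.card (↥L ⧸ S.subgroupOf L) := by
    rw [Fintype.card_bool, ← Nat.card_eq_fintype_card, hidx]; norm_num
  obtain ⟨q, q', hqq, hfq⟩ := Fintype.exists_ne_map_eq_of_card_lt f hlt
  have hne : ((q.out : ↥L) : G)⁻¹ * ((q'.out : ↥L) : G) ∉ S := by
    intro hmem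
    apply hqq
    have : (q.out : ↥L)⁻¹ * (q'.out : ↥L) ∈ S.subgroupOf L := by
      rw [Subgroup.mem_subgroupOf]; simpa using hmem
    have h2 := (QuotientGroup.eq (s := S.subgroupOf L)).mpr this
    rwa [QuotientGroup.out_eq', QuotientGroup.out_eq'] at h2
  by_cases hq : ∀ b ∈ B, ((q.out : ↥L) : G)⁻¹ * b * ((q.out : ↥L) : G) ∈ D₂
  · have hq' : ∀ b ∈ B, ((q'.out : ↥L) : G)⁻¹ * b * ((q'.out : ↥L) : G) ∈ D₂ := by
      have h1 : f q = true := by simp only [f, decide_eq_true_eq]; exact hq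
      have h2 : f q' = true := by rw [← hfq]; exact h1
      simpa only [f, decide_eq_true_eq] using h2
    obtain ⟨K, hKn, hBK, hK⟩ := hmain D₂ K₃ hK₃ hK₃n hc₃ _ (q.out : ↥L).2 _ (q'.out : ↥L).2 hne
      hq hq'
    exact ⟨K, hKn, hBK, Or.inl hK⟩
  · have hq' : ¬ ∀ b ∈ B, ((q'.out : ↥L) : G)⁻¹ * b * ((q'.out : ↥L) : G) ∈ D₂ := by
      intro hc
      have h1 : f q' = true := by simp only [f, decide_eq_true_eq]; exact hc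
      have h2 : f q = true := by rw [hfq]; exact h1
      exact hq (by simpa only [f, decide_eq_true_eq] using h2)
    have h3 := (hdich _ (q.out : ↥L).2).resolve_left hq
    have h3' := (hdich _ (q'.out : ↥L).2).resolve_left hq'
    obtain ⟨K, hKn, hBK, hK⟩ := hmain D₃ K₂ hK₂ hK₂n hc₂ _ (q.out : ↥L).2 _ (q'.out : ↥L).2 hne
      h3 h3'
    exact ⟨K, hKn, hBK, Or.inr hK⟩

end Cfsg.Agent.Lib.Helper54.Amal
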